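import Groth.Prelude.Def_W4stkadequateTF
import Groth.Agent.MiscGeom.AdeqBasic

/-!
# Element calculus for tangent modules of module-valued functors
-/

universe u

open CategoryTheory CategoryTheory.Limits Groth.MiscGeom.Adq

namespace Groth.Misc3Adeq

variable {A : Type u} [CommRing A] {B : Adeq.Alg A}

theorem mem_tangent {F : Adeq.MVF A} {N : ModuleCat.{u} B} (x : F.obj (Adeq.pt (AdeqTF.ext B N))) :
    x ∈ AdeqTF.tangent B N F ↔ tr F (AdeqTF.fst B N) x = 0 := Iff.rfl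

theorem coe_tangentMap {F : Adeq.MVF A} {N N' : ModuleCat.{u} B} (g : N ⟶ N') (x : AdeqTF.tangent B N F) :
    (AdeqTF.tangentMap B F g x).1 = tr F (AdeqTF.map B g) x.1 := rfl

theorem inl_fst (N : ModuleCat.{u} B) : AdeqTF.inl B N ≫ AdeqTF.fst B N = 𝟙 B := by
  apply CommAlgCat.hom_ext
  refine AlgHom.ext fun x => ?_
  rfl

/-- The induced map of tangent modules. -/
noncomputable def tm {F G : Adeq.MVF A} (φ : F ⟶ G) (N : ModuleCat.{u} B) :
    AdeqTF.tangent B N F →+ AdeqTF.tangent B N G :=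
  AddMonoidHom.mk' (fun x => ⟨ap φ (AdeqTF.ext B N) x.1, by
      rw [mem_tangent, ← ap_tr, (mem_tangent x.1).1 x.2, map_zero]⟩)
    fun x y => Subtype.ext (map_add _ _ _)

theorem coe_tm {F G : Adeq.MVF A} (φ : F ⟶ G) {N : ModuleCat.{u} B} (x : AdeqTF.tangent B N F) :
    (tm φ N x).1 = ap φ (AdeqTF.ext B N) x.1 := rfl

theorem tm_tangentMap {F G : Adeq.MVF A} (φ : F ⟶ G) {N N' : ModuleCat.{u} B} (g : N ⟶ N')
    (x : AdeqTF.tangent B N F) : tm φ N' (AdeqTF.tangentMap B F g x) = AdeqTF.tangentMap B G g (tm φ N x) :=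
  Subtype.ext (by rw [coe_tm, coe_tangentMap, coe_tangentMap, coe_tm]; exact ap_tr φ (AdeqTF.map B g) x.1)

theorem tangentMap_comp (F : Adeq.MVF A) {N N' N'' : ModuleCat.{u} B} (f : N ⟶ N') (g : N' ⟶ N'')
    (x : AdeqTF.tangent B N F) :
    AdeqTF.tangentMap B F g (AdeqTF.tangentMap B F f x) = AdeqTF.tangentMap B F (f ≫ g) x := by
  refine Subtype.ext ((tr_comp F _ _ x.1).trans (tr_congr F ?_ x.1))
  apply CommAlgCat.hom_ext
  refine AlgHom.ext fun z => ?_
  show TrivSqZeroExt.map g.hom (TrivSqZeroExt.map f.hom z) = TrivSqZeroExt.map (f ≫ g).hom z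
  apply TrivSqZeroExt.ext <;> simp

theorem tangentMap_id (F : Adeq.MVF A) {N : ModuleCat.{u} B} (x : AdeqTF.tangent B N F) :
    AdeqTF.tangentMap B F (𝟙 N) x = x := by
  refine Subtype.ext ((tr_congr F ?_ x.1).trans (tr_id F _ x.1))
  apply CommAlgCat.hom_ext
  refine AlgHom.ext fun z => ?_
  show TrivSqZeroExt.map (𝟙 N : N ⟶ N).hom z = z
  apply TrivSqZeroExt.ext <;> simp

theorem tangentMap_zero (F : Adeq.MVF A) {N N' : ModuleCat.{u} B} (x : AdeqTF.tangent B N F) :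
    AdeqTF.tangentMap B F (0 : N ⟶ N') x = 0 := by
  have : AdeqTF.map B (0 : N ⟶ N') = AdeqTF.fst B N ≫ AdeqTF.inl B N' := by
    apply CommAlgCat.hom_ext
    refine AlgHom.ext fun z => ?_
    show TrivSqZeroExt.map (0 : N ⟶ N').hom z = algebraMap (B : Type u) (TrivSqZeroExt (B : Type u) N') z.fst
    apply TrivSqZeroExt.ext <;> simp [TrivSqZeroExt.algebraMap_eq_inl']
  refine Subtype.ext ?_
  rw [coe_tangentMap, this, ← tr_comp, (mem_tangent x.1).1 x.2, map_zero]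
  rfl

theorem tangentMap_zero' (F : Adeq.MVF A) (S : ShortComplex (ModuleCat.{u} B)) (x : AdeqTF.tangent B S.X₁ F) :
    AdeqTF.tangentMap B F S.g (AdeqTF.tangentMap B F S.f x) = 0 := by
  rw [tangentMap_comp, S.zero, tangentMap_zero]

variable {C : ShortComplex (Adeq.MVF A)} (hC : C.ShortExact) (N : ModuleCat.{u} B)

include hC in
theorem tm_injective : Function.Injective (tm C.f N) := by
  haveI := hC.mono_f
  exact fun x y h => Subtype.ext (inj_of_mono C.f (AdeqTF.ext B N) (by rw [← coe_tm, ← coe_tm, h]))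

include hC in
theorem tm_surjective : Function.Surjective (tm C.g N) := by
  haveI := hC.epi_g
  intro y
  obtain ⟨x₀, hx₀⟩ := surj_of_epi C.g (AdeqTF.ext B N) y.1
  let c := tr C.X₂ (AdeqTF.inl B N) (tr C.X₂ (AdeqTF.fst B N) x₀)
  refine ⟨⟨x₀ - c, ?_⟩, Subtype.ext ?_⟩
  · rw [mem_tangent, map_sub, tr_comp, tr_congr C.X₂ (inl_fst N), tr_id, sub_self]
  · rw [coe_tm]
    show ap C.g (AdeqTF.ext B N) (x₀ - c) = y.1
    rw [map_sub, hx₀, ap_tr, ap_tr, hx₀, (mem_tangent y.1).1 y.2, map_zero, sub_zero]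

include hC in
theorem tm_exact (x : AdeqTF.tangent B N C.X₂) (hx : tm C.g N x = 0) : ∃ w, tm C.f N w = x := by
  obtain ⟨w, hw⟩ := (exact_ap C hC.exact (AdeqTF.ext B N) x.1).1 (by rw [← coe_tm, hx]; rfl)
  haveI := hC.mono_f
  refine ⟨⟨w, ?_⟩, Subtype.ext (by rw [coe_tm]; exact hw)⟩
  rw [mem_tangent]
  refine inj_of_mono C.f B ?_
  rw [ap_tr, hw, (mem_tangent x.1).1 x.2, map_zero]

include hC in
theorem tm_comp (w : AdeqTF.tangent B N C.X₁) : tm C.g N (tm C.f N w) = 0 :=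
  Subtype.ext (by rw [coe_tm, coe_tm]; exact (exact_ap C hC.exact (AdeqTF.ext B N)).apply_apply_eq_zero w.1)

end Groth.Misc3Adeq
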